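import Mathlib
import Groth.Agent.GrpSchField.Isogeny
import Groth.Agent.GrpSchField.ConnComp
import Groth.Agent.S3449
import Groth.Agent.Catenary.CM
import Groth.Agent.TrivSec.SmoothGR
import Groth.Agent.FpqcDescent.Affine

/-!
# Homomorphisms between complete group varieties of the same dimension
-/

set_option autoImplicit false
universe u
open CategoryTheory Limits AlgebraicGeometry MonoidalCategory CartesianMonoidalCategory MonObj

namespace Groth.Agent.AbIsog

variable {K : Type u} [Field K] {G H : Over (Spec (CommRingCat.of K))} [GrpObj G] [GrpObj H]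
  (f : G ⟶ H) [IsMonHom f]

open GrpSchField in
/-- A flat surjective proper homomorphism with one finite fibre is finite. -/
theorem isFinite_of_finite_fibre [Flat f.left] [Surjective f.left] [QuasiCompact f.left]
    (x : G.left) (hx : IsFinite (pullback.snd f.left (H.left.fromSpecResidueField (f.left x)))) :
    IsFinite f.left := by
  haveI := FpqcDescent.isFinite_descendsAlong.{u}
  let p := pullback.fst f (toUnit G ≫ η[H])
  let q := pullback.snd f (toUnit G ≫ η[H])
  have hsq : IsPullback p.left q.left f.left ((toUnit G).left ≫ η[H].left) :=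
    (IsPullback.of_hasPullback f (toUnit G ≫ η[H])).map (Over.forget _)
  let l := pullback.lift p.left (q.left ≫ (toUnit G).left) (by rw [hsq.w, Category.assoc])
  have h2 : IsPullback l q.left (pullback.snd f.left η[H].left) (toUnit G).left :=
    IsPullback.of_right (by rw [pullback.lift_fst]; exact hsq) (pullback.lift_snd _ _ _)
      (IsPullback.of_hasPullback f.left η[H].left)
  have hpq : p ≫ f = 1 := by
    rw [pullback.condition, ← Category.assoc, toUnit_unique (_ ≫ toUnit G) (toUnit _), Hom.one_def]
  let e : pullback f (toUnit G ≫ η[H]) ≅ pullback f f :=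
    { hom := pullback.lift (q * p) q (by rw [mul_comp_hom, hpq, _root_.mul_one])
      inv := pullback.lift ((pullback.snd f f)⁻¹ * pullback.fst f f) (pullback.snd f f) (by
        rw [mul_comp_hom, pullback.condition]
        have : (pullback.snd f f)⁻¹ ≫ f = (pullback.snd f f ≫ f)⁻¹ := map_inv (IsMonHom.monoidHom f _) _
        rw [this, inv_mul_cancel, ← Category.assoc, toUnit_unique (_ ≫ toUnit G) (toUnit _), Hom.one_def])
      hom_inv_id := by
        apply pullback.hom_ext
        · rw [Category.assoc, pullback.lift_fst]; simp only [comp_mul, GrpObj.comp_inv]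
          erw [pullback.lift_fst, pullback.lift_snd]; simp [p, q]
        · rw [Category.assoc, pullback.lift_snd]; erw [pullback.lift_snd]; exact (Category.id_comp _).symm
      inv_hom_id := by
        apply pullback.hom_ext
        · rw [Category.assoc, pullback.lift_fst, comp_mul, pullback.lift_snd, pullback.lift_fst]; simp
        · rw [Category.assoc, pullback.lift_snd, pullback.lift_snd]; simp }
  have hsq2 : IsPullback (pullback.fst f f).left (pullback.snd f f).left f.left f.left :=
    (IsPullback.of_hasPullback f f).map (Over.forget _)
  have heq : e.hom.left ≫ (pullback.snd f f).left = q.left := by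
    rw [← Over.comp_left]; exact congrArg Over.Hom.left (pullback.lift_snd _ _ _)
  haveI : IsIso e.hom.left := isIso_left e
  haveI : IsIso e.inv.left := isIso_left e.symm
  have hkernel : IsFinite (pullback.snd f.left η[H].left) := by
    let a := G.left.fromSpecResidueField x
    have h3 : IsFinite (pullback.snd f.left (a ≫ f.left)) := by
      rw [← Scheme.Hom.SpecMap_residueFieldMap_fromSpecResidueField f.left x,
        ← Iso.inv_hom_id_assoc (pullbackLeftPullbackSndIso f.left _ (Spec.map (f.left.residueFieldMap x)))
          (pullback.snd f.left _), pullbackLeftPullbackSndIso_hom_snd]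
      infer_instance
    have hsq3 : IsPullback (e.hom.left ≫ (pullback.fst f f).left) q.left f.left f.left := by
      refine hsq2.of_iso (asIso e.inv.left) (Iso.refl _) (Iso.refl _) (Iso.refl _) ?_ ?_ (by simp) (by simp)
      · simp only [asIso_hom, Iso.refl_hom, Category.comp_id]
        rw [← Category.assoc, ← Over.comp_left, e.inv_hom_id, Over.id_left, Category.id_comp]
      · simp only [asIso_hom, Iso.refl_hom, Category.comp_id]
        rw [← heq, ← Category.assoc, ← Over.comp_left, e.inv_hom_id, Over.id_left, Category.id_comp]
    have h4 : IsFinite (pullback.snd q.left a) := by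
      have := (IsPullback.of_hasPullback q.left a).paste_horiz hsq3
      rw [← this.isoPullback_hom_snd]
      infer_instance
    have h5 := (IsPullback.of_hasPullback q.left a).paste_horiz h2
    refine MorphismProperty.of_isPullback_of_descendsAlong (Q := @Surjective ⊓ @Flat ⊓ @QuasiCompact) h5.flip
      (show (@Surjective ⊓ @Flat ⊓ @QuasiCompact : MorphismProperty Scheme.{u}) (a ≫ (toUnit G).left) from ?_) h4
    haveI : Subsingleton (𝟙_ (Over (Spec (CommRingCat.of K)))).left :=
      inferInstanceAs (Subsingleton (Spec (CommRingCat.of K)))
    haveI : IsAffine (𝟙_ (Over (Spec (CommRingCat.of K)))).left :=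
      inferInstanceAs (IsAffine (Spec (CommRingCat.of K)))
    refine ⟨⟨⟨fun z => ⟨IsLocalRing.closedPoint _, Subsingleton.elim _ _⟩⟩, ?_⟩, inferInstance⟩
    exact inferInstanceAs (Flat ((a ≫ (toUnit G).left : _ ⟶ Spec (CommRingCat.of K))))
  have hq : IsFinite q.left := MorphismProperty.of_isPullback h2 hkernel
  have hfin : IsFinite (pullback.snd f f).left := by
    have : (pullback.snd f f).left = e.inv.left ≫ q.left := by
      rw [← Over.comp_left]; exact congrArg Over.Hom.left (pullback.lift_snd _ _ _).symm
    rw [this]
    infer_instance
  exact MorphismProperty.of_isPullback_of_descendsAlong (Q := @Surjective ⊓ @Flat ⊓ @QuasiCompact) hsq2.flip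
    ⟨⟨inferInstance, inferInstance⟩, inferInstance⟩ hfin

section Dim

variable {X Y : Over (Spec (CommRingCat.of K))} [IsIntegral X.left] [IsIntegral Y.left]
  [LocallyOfFiniteType X.hom] [LocallyOfFiniteType Y.hom] (g : X ⟶ Y)

omit [IsIntegral X.left] [IsIntegral Y.left] [LocallyOfFiniteType X.hom] [LocallyOfFiniteType Y.hom] in
/-- The local ring of a field is universally catenary. -/
theorem universallyCatenary_point (s : Spec (CommRingCat.of K)) :
    CAlg.IsUniversallyCatenary ((Spec (CommRingCat.of K)).presheaf.stalk s) := by
  haveI : LocCoh.IsCohenMacaulayRing K := Catenary.isCohenMacaulayRing_of_isRegularRing K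
  obtain rfl : s = IsLocalRing.closedPoint K := Subsingleton.elim _ _
  exact Catenary.isUniversallyCatenary_of_surjective (stalkClosedPointIso (CommRingCat.of K)).inv.hom
    ((ConcreteCategory.isIso_iff_bijective _).mp (inferInstance : IsIso (stalkClosedPointIso (CommRingCat.of K)).inv)).2

omit [IsIntegral X.left] [IsIntegral Y.left] [LocallyOfFiniteType X.hom] [LocallyOfFiniteType Y.hom] in
/-- Generisations inside a one-point space. -/
theorem genDim_point (g t : Spec (CommRingCat.of K)) :
    topologicalKrullDim ↥{u : Spec (CommRingCat.of K) | u ∈ closure ({g} : Set _) ∧ u ⤳ t} = ((0 : ℕ) : WithBot ℕ∞) := by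
  have h : {u : Spec (CommRingCat.of K) | u ∈ closure ({g} : Set _) ∧ u ⤳ t} = Set.univ :=
    Set.eq_univ_of_forall fun u => ⟨Subsingleton.elim g u ▸ subset_closure rfl, Subsingleton.elim u t ▸ specializes_rfl⟩
  rw [h, FibreDim.dim_homeo (Homeomorph.Set.univ _)]
  refine (PrimeSpectrum.topologicalKrullDim_eq_ringKrullDim K).trans ?_
  exact ringKrullDim_eq_zero_of_field K

/-- Dimension formula for a dominant morphism of varieties. -/
theorem dim_eq [IsDominant g.left] :
    topologicalKrullDim X.left =
      topologicalKrullDim Y.left + topologicalKrullDim ↥(g.left.fiber (genericPoint Y.left)) := by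
  haveI : IsLocallyNoetherian (Spec (CommRingCat.of K)) := inferInstance
  haveI : JacobsonSpace (Spec (CommRingCat.of K)) := inferInstance
  refine Groth.Agent.S3449.result (S := Spec (CommRingCat.of K)) (fun s => ?_) (fun S' _ s hs _ => ?_)
    X.hom Y.hom g.left (Over.w g)
  · exact universallyCatenary_point s
  · have h1 : S' = {t : Spec (CommRingCat.of K) | t ∈ S' ∧ t ⤳ s} :=
      Set.ext fun t => ⟨fun ht => ⟨ht, Subsingleton.elim s t ▸ specializes_rfl⟩, fun ht => ht.1⟩
    exact congrArg (fun A : Set (Spec (CommRingCat.of K)) => topologicalKrullDim ↥A) h1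

/-- A surjective morphism of varieties of equal dimension has finite generic fibre. -/
theorem finite_generic_fibre [Surjective g.left] [IsProper g.left]
    (hdim : topologicalKrullDim X.left = topologicalKrullDim Y.left) :
    (g.left ⁻¹' {genericPoint Y.left}).Finite := by
  have h := dim_eq g
  let F := g.left.fiber (genericPoint Y.left)
  let ξ := genericPoint X.left
  have hξ : g.left ξ = genericPoint Y.left := by
    refine IsGenericPoint.eq ?_ (genericPoint_spec Y.left)
    have h1 := (genericPoint_spec X.left).image g.left.continuous
    rw [Set.image_univ, g.left.surjective.range_eq, closure_univ] at h1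
    exact h1.def
  obtain ⟨n, hn⟩ : ∃ n : ℕ, topologicalKrullDim Y.left = n := by
    obtain ⟨e, -, he⟩ := GeomUnib.dim_eq_add (universallyCatenary_point (K := K)) Y.hom 0 (fun s hs _ => by
      rw [GeomUnib.genDim]
      exact genDim_point _ _)
    exact ⟨_, he⟩
  rw [hdim, hn] at h
  have hF : topologicalKrullDim ↥F ≤ 0 := by
    revert h
    generalize topologicalKrullDim ↥F = d
    intro h
    induction d using WithBot.recBotCoe with
    | bot => exact bot_le
    | coe d =>
      induction d using ENat.recTopCoe with
      | top =>
        rw [show ((n : WithBot ℕ∞)) = (((n : ℕ∞)) : WithBot ℕ∞) from rfl, ← WithBot.coe_add, add_top,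
          WithBot.coe_inj] at h
        exact absurd h (by simp)
      | coe d =>
        have : n = n + d := by exact_mod_cast h
        exact_mod_cast (by omega : d ≤ 0)
  have hsub : g.left ⁻¹' {genericPoint Y.left} ⊆ {ξ} := by
    intro z hz
    by_contra hne
    let a : F := (g.left.fiberHomeo _).symm ⟨ξ, hξ⟩
    let b : F := (g.left.fiberHomeo _).symm ⟨z, hz⟩
    have hab : a ⤳ b := Specializes.map ((subtype_specializes_iff _ _).mpr (genericPoint_specializes z))
      (g.left.fiberHomeo _).symm.continuous
    let A : TopologicalSpace.IrreducibleCloseds ↥F := ⟨closure {a}, isIrreducible_singleton.closure, isClosed_closure⟩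
    let B : TopologicalSpace.IrreducibleCloseds ↥F := ⟨closure {b}, isIrreducible_singleton.closure, isClosed_closure⟩
    have hlt : B < A := by
      refine lt_of_le_of_ne (specializes_iff_closure_subset.mp hab) fun he => hne ?_
      have hba : b ⤳ a := specializes_iff_closure_subset.mpr he.ge
      exact congrArg Subtype.val ((g.left.fiberHomeo _).symm.injective (hab.antisymm hba).eq) |>.symm
    exact absurd (Order.krullDim_pos_iff.mpr ⟨B, A, hlt⟩) (not_lt.mpr hF)
  exact (Set.finite_singleton ξ).subset hsub

end Dim

end Groth.Agent.AbIsog
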