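import Mathlib
import Groth.Agent.AbIsog.Field
import Groth.Agent.GrpSchField.Dim
import Groth.Agent.GrpSchField.Translate

/-!
# Surjective, finite and flat homomorphisms of abelian schemes
-/

set_option autoImplicit false
universe u
open CategoryTheory Limits AlgebraicGeometry MonoidalCategory CartesianMonoidalCategory MonObj

namespace Groth.Agent.AbIsog

section Field

variable {K : Type u} [Field K] {G H : Over (Spec (CommRingCat.of K))} [GrpObj G] [GrpObj H]

/-- A connected reduced group scheme of finite type over a field is integral. -/
theorem isIntegral_left (X : Over (Spec (CommRingCat.of K))) [GrpObj X] [LocallyOfFiniteType X.hom]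
    [ConnectedSpace X.left] [IsReduced X.left] : IsIntegral X.left := by
  haveI : IrreducibleSpace X.left := GrpSchField.irreducibleSpace_of_connectedSpace
  exact isIntegral_of_irreducibleSpace_of_isReduced _

variable [IsProper G.hom] [IsProper H.hom] [IsIntegral G.left] [IsIntegral H.left] (f : G ⟶ H) [IsMonHom f]
  (hdim : topologicalKrullDim G.left = topologicalKrullDim H.left)

include hdim in
/-- A surjective homomorphism between complete group varieties of equal dimension is finite and flat. -/
theorem isFinite_and_flat_of_surjective [Surjective f.left] : IsFinite f.left ∧ Flat f.left := by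
  haveI : Flat f.left := GrpSchField.flat_of_surjective f
  haveI : IsProper f.left := by
    have : IsProper (f.left ≫ H.hom) := by rw [Over.w f]; infer_instance
    exact IsProper.of_comp f.left H.hom
  refine ⟨?_, inferInstance⟩
  have hfinite := finite_generic_fibre f hdim
  obtain ⟨x, hx⟩ := f.left.surjective (genericPoint H.left)
  obtain ⟨V, hV, hVf⟩ := exists_isFinite_morphismRestrict_of_finite_preimage_singleton (f := f.left)
    (f.left x) (by rw [hx]; exact hfinite)
  let j : Spec (H.left.residueField (f.left x)) ⟶ (V : Scheme.{u}) :=
    IsOpenImmersion.lift V.ι (H.left.fromSpecResidueField (f.left x)) (by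
      rw [Scheme.range_fromSpecResidueField, Scheme.Opens.range_ι]
      exact Set.singleton_subset_iff.mpr hV)
  refine isFinite_of_finite_fibre f x ?_
  have h1 : IsPullback (f.left ⁻¹ᵁ V).ι (f.left ∣_ V) f.left V.ι := (isPullback_morphismRestrict f.left V).flip
  have h2 := (IsPullback.of_hasPullback (f.left ∣_ V) j).flip.paste_vert h1.flip
  rw [IsOpenImmersion.lift_fac] at h2
  rw [← h2.flip.isoPullback_inv_snd]
  infer_instance

include hdim in
/-- A quasi-finite homomorphism between complete group varieties of equal dimension is surjective. -/
theorem surjective_of_locallyQuasiFinite [LocallyQuasiFinite f.left] : Surjective f.left := by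
  haveI : IsProper f.left := by
    have : IsProper (f.left ≫ H.hom) := by rw [Over.w f]; infer_instance
    exact IsProper.of_comp f.left H.hom
  haveI : IsFinite f.left := IsFinite.of_isProper_of_locallyQuasiFinite f.left
  let ξ := genericPoint G.left
  by_cases hξ : f.left ξ = genericPoint H.left
  · exact ⟨fun y => (genericPoint_specializes y).mem_closed f.left.isClosedMap.isClosed_range ⟨ξ, hξ⟩⟩
  exfalso
  obtain ⟨e, -, he⟩ := GeomUnib.dim_eq_add (universallyCatenary_point (K := K)) G.hom 0 (fun s hs _ => by
    exact genDim_point _ _)
  rw [zero_add] at he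
  have hG : Order.krullDim G.left = (e : WithBot ℕ∞) := by
    rw [← he, topologicalKrullDim, Order.krullDim_eq_of_orderIso irreducibleSetEquivPoints]
  have hH : Order.krullDim H.left = (e : WithBot ℕ∞) := by
    rw [← he, hdim, topologicalKrullDim, Order.krullDim_eq_of_orderIso irreducibleSetEquivPoints]
  obtain ⟨s, hs⟩ := Order.le_krullDim_iff.mp hG.ge
  have hmono := GrpSchField.strictMono_of_isIntegralHom f.left
  let t := s.map f.left hmono
  have hlast : t.last < genericPoint H.left := by
    refine lt_of_le_not_ge (genericPoint_specializes _) fun hge => hξ ?_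
    have h1 : f.left ξ ⤳ t.last := by
      simpa [t] using (genericPoint_specializes s.last).map f.left.continuous
    exact ((h1.trans hge).antisymm (genericPoint_specializes _)).eq
  have := Order.LTSeries.length_le_krullDim (t.snoc _ hlast)
  rw [hH] at this
  have h2 : (t.snoc _ hlast).length = e + 1 := by simp [t, hs]
  rw [h2] at this
  exact absurd (by exact_mod_cast this : e + 1 ≤ e) (by omega)

end Field

section Base

variable {S : Scheme.{u}} {A B : Over S} [GrpObj A] [GrpObj B] [IsProper A.hom] [Smooth A.hom]
  [GeometricallyConnected A.hom] [IsProper B.hom] [Smooth B.hom] [GeometricallyConnected B.hom]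

/-- The fibre of an abelian scheme is integral. -/
theorem isIntegral_fibre (s : S) : IsIntegral (A.hom.fiber s) := by
  haveI : GeometricallyReduced A.hom := TrivSec.geometricallyReduced_of_smooth A.hom
  let Gs : Over (Spec (CommRingCat.of (S.residueField s))) := (Over.pullback (S.fromSpecResidueField s)).obj A
  let : GrpObj Gs := Functor.grpObjObj
  haveI : LocallyOfFiniteType Gs.hom :=
    inferInstanceAs (LocallyOfFiniteType (pullback.snd A.hom (S.fromSpecResidueField s)))
  haveI : IsReduced Gs.left := inferInstanceAs (IsReduced (A.hom.fiber s))
  haveI : ConnectedSpace Gs.left := inferInstanceAs (ConnectedSpace (A.hom.fiber s))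
  exact isIntegral_left Gs

variable (f : A ⟶ B) [IsMonHom f]

/-- A homomorphism of abelian schemes is flat if and only if it is surjective. -/
theorem flat_iff_surjective : Flat f.left ↔ Surjective f.left := by
  haveI : IsProper f.left := by
    have : IsProper (f.left ≫ B.hom) := by rw [Over.w f]; infer_instance
    exact IsProper.of_comp f.left B.hom
  constructor
  · intro
    refine ⟨fun y => ?_⟩
    let s := B.hom y
    let F := Over.pullback (S.fromSpecResidueField s)
    let Gs : Over (Spec (CommRingCat.of (S.residueField s))) := F.obj A
    let Hs : Over (Spec (CommRingCat.of (S.residueField s))) := F.obj B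
    let fs : Gs ⟶ Hs := F.map f
    let : GrpObj Gs := Functor.grpObjObj
    let : GrpObj Hs := Functor.grpObjObj
    have : IsMonHom fs := inferInstanceAs (IsMonHom (F.map f))
    have hpb := GrpSchField.isPullback_fibreHom f s
    haveI : Flat fs.left := MorphismProperty.of_isPullback hpb.flip inferInstance
    haveI : LocallyOfFiniteType Gs.hom :=
      inferInstanceAs (LocallyOfFiniteType (pullback.snd A.hom (S.fromSpecResidueField s)))
    haveI : LocallyOfFiniteType Hs.hom :=
      inferInstanceAs (LocallyOfFiniteType (pullback.snd B.hom (S.fromSpecResidueField s)))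
    haveI : IsLocallyNoetherian Hs.left := LocallyOfFiniteType.isLocallyNoetherian Hs.hom
    haveI : LocallyOfFiniteType fs.left := MorphismProperty.of_isPullback hpb.flip inferInstance
    haveI : LocallyOfFinitePresentation fs.left :=
      LocallyOfFinitePresentation.iff_locallyOfFiniteType.mpr inferInstance
    haveI : ConnectedSpace Hs.left := inferInstanceAs (ConnectedSpace (B.hom.fiber s))
    haveI := GrpSchField.surjective_of_flat fs
    obtain ⟨z, hz⟩ := fs.left.surjective (B.hom.asFiber y)
    refine ⟨pullback.fst A.hom (S.fromSpecResidueField s) z, ?_⟩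
    refine (congr($(hpb.w.symm) z)).trans ?_
    exact (congrArg (fun w => B.hom.fiberι (B.hom y) w) hz).trans (Scheme.Hom.fiberι_asFiber _ _)
  · intro
    haveI : GeometricallyReduced B.hom := TrivSec.geometricallyReduced_of_smooth B.hom
    refine Flat.of_stalkMap _ fun x => (GrpSchField.flat_stalkMap_of_flat_fibre f ?_).2
    let s := A.hom x
    let F := Over.pullback (S.fromSpecResidueField s)
    let Gs : Over (Spec (CommRingCat.of (S.residueField s))) := F.obj A
    let Hs : Over (Spec (CommRingCat.of (S.residueField s))) := F.obj B
    let fs : Gs ⟶ Hs := F.map f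
    let : GrpObj Gs := Functor.grpObjObj
    let : GrpObj Hs := Functor.grpObjObj
    have : IsMonHom fs := inferInstanceAs (IsMonHom (F.map f))
    haveI : LocallyOfFiniteType Gs.hom :=
      inferInstanceAs (LocallyOfFiniteType (pullback.snd A.hom (S.fromSpecResidueField s)))
    haveI : LocallyOfFiniteType Hs.hom :=
      inferInstanceAs (LocallyOfFiniteType (pullback.snd B.hom (S.fromSpecResidueField s)))
    haveI : IsReduced Hs.left := inferInstanceAs (IsReduced (B.hom.fiber s))
    haveI : Surjective fs.left :=
      MorphismProperty.of_isPullback (GrpSchField.isPullback_fibreHom f s).flip inferInstance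
    exact GrpSchField.flat_of_surjective fs

/-- For fibres of equal dimension, quasi-finiteness is equivalent to surjectivity. -/
theorem locallyQuasiFinite_iff_surjective
    (hdim : ∀ s : S, topologicalKrullDim ↥(A.hom.fiber s) = topologicalKrullDim ↥(B.hom.fiber s)) :
    LocallyQuasiFinite f.left ↔ Surjective f.left := by
  have key : ∀ (s : S),
      (LocallyQuasiFinite ((Over.pullback (S.fromSpecResidueField s)).map f).left →
        Surjective ((Over.pullback (S.fromSpecResidueField s)).map f).left) ∧
      (Surjective ((Over.pullback (S.fromSpecResidueField s)).map f).left →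
        IsFinite ((Over.pullback (S.fromSpecResidueField s)).map f).left) := fun s => by
    let F := Over.pullback (S.fromSpecResidueField s)
    let Gs : Over (Spec (CommRingCat.of (S.residueField s))) := F.obj A
    let Hs : Over (Spec (CommRingCat.of (S.residueField s))) := F.obj B
    let fs : Gs ⟶ Hs := F.map f
    let : GrpObj Gs := Functor.grpObjObj
    let : GrpObj Hs := Functor.grpObjObj
    have : IsMonHom fs := inferInstanceAs (IsMonHom (F.map f))
    haveI : IsProper Gs.hom := inferInstanceAs (IsProper (pullback.snd A.hom (S.fromSpecResidueField s)))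
    haveI : IsProper Hs.hom := inferInstanceAs (IsProper (pullback.snd B.hom (S.fromSpecResidueField s)))
    haveI : IsIntegral Gs.left := isIntegral_fibre (A := A) s
    haveI : IsIntegral Hs.left := isIntegral_fibre (A := B) s
    exact ⟨fun _ => surjective_of_locallyQuasiFinite fs (hdim s),
      fun _ => (isFinite_and_flat_of_surjective fs (hdim s)).1⟩
  constructor
  · intro
    refine ⟨fun y => ?_⟩
    have hpb := GrpSchField.isPullback_fibreHom f (B.hom y)
    haveI := (key (B.hom y)).1 (MorphismProperty.of_isPullback hpb.flip inferInstance)
    obtain ⟨z, hz⟩ := ((Over.pullback (S.fromSpecResidueField (B.hom y))).map f).left.surjective (B.hom.asFiber y)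
    refine ⟨pullback.fst A.hom (S.fromSpecResidueField (B.hom y)) z, ?_⟩
    refine (congr($(hpb.w.symm) z)).trans ?_
    exact (congrArg (fun w => B.hom.fiberι (B.hom y) w) hz).trans (Scheme.Hom.fiberι_asFiber _ _)
  · intro
    haveI : IsProper f.left := by
      have : IsProper (f.left ≫ B.hom) := by rw [Over.w f]; infer_instance
      exact IsProper.of_comp f.left B.hom
    refine LocallyQuasiFinite.of_finite_preimage_singleton f.left fun y => ?_
    have hpb := GrpSchField.isPullback_fibreHom f (B.hom y)
    haveI := (key (B.hom y)).2 (MorphismProperty.of_isPullback hpb.flip inferInstance)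
    refine Set.Finite.subset ((((Over.pullback (S.fromSpecResidueField (B.hom y))).map f).left.finite_preimage_singleton
      (B.hom.asFiber y)).image (pullback.fst A.hom (S.fromSpecResidueField (B.hom y)))) fun x hx => ?_
    obtain ⟨z, hz1, hz2⟩ := Scheme.Pullback.exists_preimage_pullback (f := f.left) (g := B.hom.fiberι (B.hom y))
      x (B.hom.asFiber y) (by rw [Scheme.Hom.fiberι_asFiber]; exact hx)
    refine ⟨hpb.flip.isoPullback.inv z, ?_, ?_⟩
    · exact (congr($(hpb.flip.isoPullback_inv_snd) z)).trans hz2
    · exact (congr($(hpb.flip.isoPullback_inv_fst) z)).trans hz1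

end Base

end Groth.Agent.AbIsog
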